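import Groth.Agent.NormAmple.Descend
import Groth.Agent.LocFree.SemiLocal
import Mathlib.RingTheory.Localization.NormTrace

/-!
The norm of a finite locally free morphism.
-/

set_option autoImplicit false
set_option backward.isDefEq.respectTransparency false
set_option linter.style.haveILetI false
set_option linter.unusedSectionVars false

universe u

open CategoryTheory CategoryTheory.Limits AlgebraicGeometry TopologicalSpace Opposite Module
open Groth.Agent.QC (res resO res_res res_self res_smul resO_resO resO_self app_res)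

noncomputable section

namespace Groth.Agent.NormAmple

open Groth.Agent

variable {X' X : Scheme.{u}} (g : X' ⟶ X) (D : ℕ)

/-- An affine open with free direct image of rank dividing `D`. -/
def Good (W : X.Opens) : Prop :=
  IsAffineOpen W ∧ ∃ n : ℕ, 0 < n ∧ n ∣ D ∧
    letI := (g.app W).hom.toAlgebra
    Nonempty (Basis (Fin n) Γ(X, W) Γ(X', g ⁻¹ᵁ W))

/-- The local norm. -/
def νloc (W : X.Opens) : Γ(X', g ⁻¹ᵁ W) →* Γ(X, W) :=
  letI := (g.app W).hom.toAlgebra
  (powMonoidHom (D / finrank Γ(X, W) Γ(X', g ⁻¹ᵁ W))).comp (Algebra.norm Γ(X, W))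

lemma νloc_app {W : X.Opens} (hW : Good g D W) (c : Γ(X, W)) :
    νloc g D W ((g.app W).hom c) = c ^ D := by
  letI := (g.app W).hom.toAlgebra
  obtain ⟨-, n, hn, hnD, ⟨b⟩⟩ := hW
  cases subsingleton_or_nontrivial Γ(X, W)
  · exact Subsingleton.elim _ _
  change Algebra.norm Γ(X, W) (algebraMap Γ(X, W) Γ(X', g ⁻¹ᵁ W) c) ^ (D / finrank _ _) = _
  rw [Algebra.norm_algebraMap_of_basis b, Fintype.card_fin, finrank_eq_card_basis b, Fintype.card_fin,
    ← pow_mul, Nat.mul_div_cancel' hnD]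

lemma isUnit_νloc {W : X.Opens} (hW : Good g D W) (hD : 0 < D) (a : Γ(X', g ⁻¹ᵁ W)) :
    IsUnit (νloc g D W a) ↔ IsUnit a := by
  refine ⟨fun h => ?_, fun h => h.map _⟩
  letI := (g.app W).hom.toAlgebra
  obtain ⟨-, n, hn, hnD, ⟨b⟩⟩ := hW
  cases subsingleton_or_nontrivial Γ(X, W)
  · haveI : Subsingleton Γ(X', g ⁻¹ᵁ W) := Module.subsingleton Γ(X, W) _
    exact isUnit_of_subsingleton a
  haveI := Module.Finite.of_basis b
  haveI := Module.Free.of_basis b
  change IsUnit (Algebra.norm Γ(X, W) a ^ (D / finrank _ _)) at h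
  rw [finrank_eq_card_basis b, Fintype.card_fin, isUnit_pow_iff
    (Nat.div_pos (Nat.le_of_dvd hD hnD) hn).ne', Algebra.norm_apply, ← LinearMap.isUnit_iff_isUnit_det,
    Module.End.isUnit_iff] at h
  obtain ⟨d, hd⟩ := h.2 (1 : Γ(X', g ⁻¹ᵁ W))
  exact IsUnit.of_mul_eq_one d hd

set_option maxHeartbeats 800000 in
lemma good_basicOpen [IsAffineHom g] {W : X.Opens} (hW : Good g D W) (r : Γ(X, W)) :
    Good g D (X.basicOpen r) ∧ ∀ a : Γ(X', g ⁻¹ᵁ W),
      νloc g D (X.basicOpen r) (resO X' (g.preimage_mono (X.basicOpen_le r)) a) =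
        resO X (X.basicOpen_le r) (νloc g D W a) := by
  obtain ⟨hWa, n, hn, hnD, ⟨b⟩⟩ := hW
  let A := Γ(X, W)
  let B := Γ(X', g ⁻¹ᵁ W)
  let A' := Γ(X, X.basicOpen r)
  let B' := Γ(X', g ⁻¹ᵁ X.basicOpen r)
  letI : Algebra A B := (g.app W).hom.toAlgebra
  letI : Algebra A' B' := (g.app (X.basicOpen r)).hom.toAlgebra
  letI : Algebra A A' := (resO X (X.basicOpen_le r)).toAlgebra
  letI : Algebra B B' := (resO X' (g.preimage_mono (X.basicOpen_le r))).toAlgebra
  letI : Algebra A B' := ((resO X' (g.preimage_mono (X.basicOpen_le r))).comp (g.app W).hom).toAlgebra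
  haveI : IsScalarTower A B B' := IsScalarTower.of_algebraMap_eq fun _ => rfl
  haveI : IsScalarTower A A' B' := IsScalarTower.of_algebraMap_eq fun c =>
    congr(($(g.naturality (homOfLE (X.basicOpen_le r)).op)).hom c).symm
  haveI : IsLocalization (Submonoid.powers r) A' := hWa.isLocalization_basicOpen r
  haveI : IsLocalization (Algebra.algebraMapSubmonoid B (Submonoid.powers r)) B' := by
    rw [Algebra.algebraMapSubmonoid_powers]
    exact (hWa.preimage g).isLocalization_of_eq_basicOpen ((g.app W).hom r)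
      (homOfLE (g.preimage_mono (X.basicOpen_le r))) (g.preimage_basicOpen r)
  let b' : Basis (Fin n) A' B' := b.localizationLocalization A' (Submonoid.powers r) B'
  refine ⟨⟨hWa.basicOpen r, n, hn, hnD, ⟨b'⟩⟩, fun a => ?_⟩
  cases subsingleton_or_nontrivial A'
  · exact Subsingleton.elim _ _
  haveI : Nontrivial A := (resO X (X.basicOpen_le r)).domain_nontrivial
  haveI := Module.Finite.of_basis b
  haveI := Module.Free.of_basis b
  change Algebra.norm A' (algebraMap B B' a) ^ (D / finrank A' B') =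
    algebraMap A A' (Algebra.norm A a ^ (D / finrank A B))
  rw [Algebra.norm_localization A (Submonoid.powers r) a, finrank_eq_card_basis b',
    finrank_eq_card_basis b, map_pow]

/-- The defining property of the norm of a section. -/
def IsNorm {V : X.Opens} (a : Γ(X', g ⁻¹ᵁ V)) (t : Γ(X, V)) : Prop :=
  ∀ (W : X.Opens) (h : W ≤ V), Good g D W → resO X h t = νloc g D W (resO X' (g.preimage_mono h) a)

variable {g D}

lemma exists_good_le [IsAffineHom g] (hG : ∀ x : X, ∃ W, x ∈ W ∧ Good g D W) {V : X.Opens} {x : X}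
    (hx : x ∈ V) : ∃ W, W ≤ V ∧ x ∈ W ∧ Good g D W := by
  obtain ⟨W, hxW, hW⟩ := hG x
  obtain ⟨r, hr, hxr⟩ := hW.1.exists_basicOpen_le ⟨x, hx⟩ hxW
  exact ⟨_, hr, hxr, (good_basicOpen g D hW r).1⟩

lemma νloc_compat [IsAffineHom g] {W₁ W₂ : X.Opens} (h₁ : Good g D W₁) (h₂ : Good g D W₂)
    {V : X.Opens} (e₁ : W₁ ≤ V) (e₂ : W₂ ≤ V) (a : Γ(X', g ⁻¹ᵁ V)) :
    resO X (inf_le_left : W₁ ⊓ W₂ ≤ W₁) (νloc g D W₁ (resO X' (g.preimage_mono e₁) a)) =
      resO X (inf_le_right : W₁ ⊓ W₂ ≤ W₂) (νloc g D W₂ (resO X' (g.preimage_mono e₂) a)) := by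
  choose r r' hr hyr using fun y : (W₁ ⊓ W₂ : X.Opens) =>
    exists_basicOpen_le_affine_inter h₁.1 h₂.1 y.1 y.2
  have hr₂ : ∀ y, X.basicOpen (r y) ≤ W₂ := fun y => (hr y).trans_le (X.basicOpen_le (r' y))
  refine X.sheaf.eq_of_locally_eq' (fun y : (W₁ ⊓ W₂ : X.Opens) => X.basicOpen (r y))
    (W₁ ⊓ W₂) (fun y => homOfLE (le_inf (X.basicOpen_le _) (hr₂ y)))
    (fun y hy => Opens.mem_iSup.mpr ⟨⟨y, hy⟩, hyr _⟩) _ _ fun y => ?_
  have key : ∀ (B : X.Opens) (_ : B = X.basicOpen (r' y)) (hB : B ≤ W₂),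
      νloc g D B (resO X' (g.preimage_mono hB) (resO X' (g.preimage_mono e₂) a)) =
        resO X hB (νloc g D W₂ (resO X' (g.preimage_mono e₂) a)) := by
    rintro B rfl hB
    exact (good_basicOpen g D h₂ (r' y)).2 _
  show resO X (le_inf (X.basicOpen_le (r y)) (hr₂ y)) (resO X inf_le_left _) =
    resO X (le_inf (X.basicOpen_le (r y)) (hr₂ y)) (resO X inf_le_right _)
  rw [resO_resO, resO_resO, ← key _ (hr y) (hr₂ y), ← (good_basicOpen g D h₁ (r y)).2, resO_resO, resO_resO]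

theorem existsUnique_isNorm [IsAffineHom g] (hG : ∀ x : X, ∃ W, x ∈ W ∧ Good g D W) {V : X.Opens}
    (a : Γ(X', g ⁻¹ᵁ V)) : ∃! t : Γ(X, V), IsNorm g D a t := by
  classical
  obtain ⟨t, ht, huniq⟩ := X.sheaf.existsUnique_gluing'
    (fun W : {W : X.Opens // W ≤ V ∧ Good g D W} => W.1) V (fun W => homOfLE W.2.1)
    (fun x hx => by
      obtain ⟨W, hWV, hxW, hW⟩ := exists_good_le hG hx
      exact Opens.mem_iSup.mpr ⟨⟨W, hWV, hW⟩, hxW⟩)
    (fun W => νloc g D W.1 (resO X' (g.preimage_mono W.2.1) a))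
    (fun W₁ W₂ => νloc_compat W₁.2.2 W₂.2.2 W₁.2.1 W₂.2.1 a)
  exact ⟨t, fun W h hW => ht ⟨W, h, hW⟩, fun t' ht' => huniq t' fun W => ht' W.1 W.2.1 W.2.2⟩

/-- A norm map out of unique norms. -/
def normMapOfUnique [IsFinite g] (hE : ∀ (V : X.Opens) (a : Γ(X', g ⁻¹ᵁ V)), ∃! t : Γ(X, V), IsNorm g D a t)
    (hM : ∀ (V : X.Opens) (a : Γ(X', g ⁻¹ᵁ V)) (y : X), y ∈ V → y ∈ X.basicOpen (hE V a).choose →
      ∃ x', g.base x' = y ∧ x' ∈ X'.basicOpen a) : NormMap g D := by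
  classical
  let n : ∀ V, Γ(X', g ⁻¹ᵁ V) → Γ(X, V) := fun V a => (hE V a).choose
  have hn : ∀ V a, IsNorm g D a (n V a) := fun V a => (hE V a).choose_spec.1
  have hu : ∀ {V} {a : Γ(X', g ⁻¹ᵁ V)} {t}, IsNorm g D a t → n V a = t := fun {V a t} h =>
    ((hE V a).choose_spec.2 t h).symm
  let ν : ∀ V, Γ(X', g ⁻¹ᵁ V) →* Γ(X, V) := fun V =>
    { toFun := n V
      map_one' := hu fun W h _ => by rw [map_one, map_one, map_one]
      map_mul' := fun a b => hu fun W h hW => by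
        rw [map_mul, map_mul, map_mul, hn V a W h hW, hn V b W h hW] }
  have hres : ∀ {W V : X.Opens} (h : W ≤ V) (a : Γ(X', g ⁻¹ᵁ V)),
      ν W (resO X' (g.preimage_mono h) a) = resO X h (ν V a) := fun {W V} h a => hu fun W' h' hW' => by
    show resO X h' (resO X h (n V a)) = _
    rw [resO_resO, hn V a W' (h'.trans h) hW', resO_resO]
  refine
    { ν := ν
      ν_res := hres
      ν_app := fun V c => hu fun W h hW => ?_
      mem_basicOpen := fun V a y hy hfib => ?_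
      exists_mem := fun V a y hy hyb => hM V a y hy hyb }
  · have e : resO X' (g.preimage_mono h) ((g.app V).hom c) = (g.app W).hom (resO X h c) :=
      congr(($(g.naturality (homOfLE h).op)).hom c).symm
    rw [e, νloc_app g D hW, map_pow]
  · have hcl : IsClosed (g.base '' ((X'.basicOpen a : Set X')ᶜ)) :=
      g.isClosedMap _ (X'.basicOpen a).2.isClosed_compl
    let W : X.Opens := V ⊓ ⟨_, hcl.isOpen_compl⟩
    have hWV : W ≤ V := inf_le_left
    have hyW : y ∈ W := ⟨hy, fun ⟨x', hx', e⟩ => hx' (hfib x' e)⟩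
    have h1 : IsUnit (resO X' (g.preimage_mono hWV) a) := by
      have hle : g ⁻¹ᵁ W ≤ X'.basicOpen a := fun x' hx' => by
        by_contra hc
        exact hx'.2 ⟨x', hc, rfl⟩
      rw [← resO_resO hle (X'.basicOpen_le a)]
      exact (RingedSpace.isUnit_res_basicOpen _ a).map _
    have h2 := h1.map (ν W)
    rw [hres hWV] at h2
    exact QC.basicOpen_resO_le _ _ ((X.basicOpen_of_isUnit h2).ge hyW)

/-- Where a good open supports a norm, non-vanishing is detected on the fibre. -/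
lemma exists_mem_of_good [IsFinite g] (hD : 0 < D) {V : X.Opens} {a : Γ(X', g ⁻¹ᵁ V)} {t : Γ(X, V)}
    (ht : IsNorm g D a t) {W : X.Opens} (hW : Good g D W) {y : X} (hyW : y ∈ W)
    (hyb : y ∈ X.basicOpen t) : ∃ x', g.base x' = y ∧ x' ∈ X'.basicOpen a := by
  by_contra! hno
  obtain ⟨r, hr, hyr⟩ := hW.1.exists_basicOpen_le (V := X.basicOpen t) ⟨y, hyb⟩ hyW
  have hG := (good_basicOpen g D hW r).1
  have hWV : X.basicOpen r ≤ V := hr.trans (X.basicOpen_le t)
  have h1 : IsUnit (resO X hWV t) := by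
    rw [← resO_resO hr (X.basicOpen_le t)]
    exact (RingedSpace.isUnit_res_basicOpen _ t).map _
  rw [ht _ hWV hG, isUnit_νloc g D hG hD] at h1
  by_cases hne : ∃ x', g.base x' = y
  · obtain ⟨x', hx'⟩ := hne
    exact hno x' hx' (QC.basicOpen_resO_le _ a ((X'.basicOpen_of_isUnit h1).ge (show g.base x' ∈ _ by
      rw [hx']; exact hyr)))
  · obtain ⟨r', hr', hyr'⟩ := hW.1.exists_basicOpen_le
      (V := ⟨_, g.isClosedMap.isClosed_range.isOpen_compl⟩) ⟨y, fun ⟨x', hx'⟩ => hne ⟨x', hx'⟩⟩ hyW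
    obtain ⟨-, n, hn, -, ⟨b⟩⟩ := (good_basicOpen g D hW r').1
    haveI : Nonempty (X.basicOpen r' : X.Opens) := ⟨⟨y, hyr'⟩⟩
    letI := (g.app (X.basicOpen r')).hom.toAlgebra
    have hbot : g ⁻¹ᵁ X.basicOpen r' = ⊥ := eq_bot_iff.2 fun x' hx' => hr' hx' ⟨x', rfl⟩
    have hsub : ∀ O : X'.Opens, O = ⊥ → Subsingleton Γ(X', O) := by
      rintro O rfl; infer_instance
    haveI := hsub _ hbot
    haveI : IsEmpty (Fin n) := ⟨fun i => b.ne_zero i (Subsingleton.elim _ _)⟩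
    exact isEmptyElim (⟨0, hn⟩ : Fin n)

/-- The norm map of a morphism with good opens everywhere. -/
def normMap [IsFinite g] (hD : 0 < D) (hG : ∀ x : X, ∃ W, x ∈ W ∧ Good g D W) : NormMap g D :=
  normMapOfUnique (fun _ a => existsUnique_isNorm hG a) fun V a y _ hyb => by
    obtain ⟨W, hyW, hW⟩ := hG y
    exact exists_mem_of_good hD (existsUnique_isNorm hG a).choose_spec.1 hW hyW hyb

variable (g) in
/-- Free neighbourhoods. -/
def FreeNhds : Prop :=
  ∀ x : X, ∃ (W : X.Opens) (n : ℕ), x ∈ W ∧ 0 < n ∧ IsAffineOpen W ∧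
    (letI := (g.app W).hom.toAlgebra
     Nonempty (Basis (Fin n) Γ(X, W) Γ(X', g ⁻¹ᵁ W)))

/-- A finite locally free surjective morphism has free neighbourhoods. -/
theorem freeNhds_of_isFinLocFree [Surjective g]
    (hfree : FlatMod.IsFinLocFree ((Coh.push g).obj (Coh.structureModule X'))) : FreeNhds g :=
  fun x => by
    obtain ⟨U, n, hxU, ⟨e⟩⟩ := hfree x
    obtain ⟨W, hW, hxW, hWU⟩ := exists_isAffineOpen_mem_and_subset hxU
    obtain ⟨b⟩ := LocFree.exists_basis_sections_of_le e hW hWU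
    letI := (g.app W).hom.toAlgebra
    let l : Γ((Coh.push g).obj (Coh.structureModule X'), W) ≃ₗ[Γ(X, W)] Γ(X', g ⁻¹ᵁ W) :=
      { toFun := fun c => c
        invFun := fun c => c
        map_add' := fun _ _ => rfl
        map_smul' := fun _ _ => rfl
        left_inv := fun _ => rfl
        right_inv := fun _ => rfl }
    let b' : Basis (Fin n) Γ(X, W) Γ(X', g ⁻¹ᵁ W) := (b.reindex Equiv.ulift).map l
    refine ⟨W, n, hxW, Nat.pos_of_ne_zero fun hn => ?_, hW, ⟨b'⟩⟩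
    subst hn
    haveI : Subsingleton Γ(X', g ⁻¹ᵁ W) := b'.repr.toEquiv.subsingleton
    obtain ⟨x', hx'⟩ := g.surjective x
    have hx'W : x' ∈ g ⁻¹ᵁ W := by
      show g.base x' ∈ W
      rw [hx']; exact hxW
    have hu : x' ∈ X'.basicOpen (0 : Γ(X', g ⁻¹ᵁ W)) :=
      (X'.basicOpen_of_isUnit (isUnit_of_subsingleton _)).ge hx'W
    rw [X'.basicOpen_zero] at hu
    exact hu

lemma basis_appLE {W W₀ : X.Opens} (e : W₀ = W) {O : X'.Opens} (e' : O = g ⁻¹ᵁ W₀) {n : ℕ}
    (hb : letI := (g.app W).hom.toAlgebra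
      Nonempty (Basis (Fin n) Γ(X, W) Γ(X', g ⁻¹ᵁ W))) :
    letI := (g.appLE W₀ O e'.le).hom.toAlgebra
    Nonempty (Basis (Fin n) Γ(X, W₀) Γ(X', O)) := by
  subst e e'
  rw [Scheme.Hom.appLE_eq_app]
  exact hb

/-- Free neighbourhoods restrict to opens. -/
theorem FreeNhds.restrict [IsAffineHom g] (h : FreeNhds g) (U : X.Opens) :
    FreeNhds (g ∣_ U) := fun x => by
  classical
  obtain ⟨W₀, n, hxW, hn, hW, hb⟩ := h (U.ι x)
  obtain ⟨r, hrU, hxr⟩ := hW.exists_basicOpen_le ⟨U.ι x, x.2⟩ hxW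
  obtain ⟨⟨hWa, n', hn', -, hb'⟩, -⟩ := good_basicOpen g n (W := W₀) ⟨hW, n, hn, dvd_rfl, hb⟩ r
  have e : U.ι ''ᵁ (U.ι ⁻¹ᵁ X.basicOpen r) = X.basicOpen r := by
    rw [Scheme.Hom.image_preimage_eq_opensRange_inf, Scheme.Opens.opensRange_ι, inf_eq_right.mpr hrU]
  refine ⟨U.ι ⁻¹ᵁ X.basicOpen r, n', hxr, hn',
    (U.ι.isAffineOpen_iff_of_isOpenImmersion).mp (by rw [e]; exact hWa), ?_⟩
  have key := basis_appLE e (image_morphismRestrict_preimage g U (U.ι ⁻¹ᵁ X.basicOpen r)) hb'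
  rw [← morphismRestrict_app'] at key
  exact key

/-- Free neighbourhoods over a quasi-compact base give a norm. -/
theorem exists_normMap [CompactSpace X] [IsFinite g] (h : FreeNhds g) :
    ∃ D, 0 < D ∧ Nonempty (NormMap g D) := by
  classical
  choose W n hxW hn hW hb using h
  obtain ⟨t, ht⟩ := isCompact_univ.elim_finite_subcover (fun x : X => (W x : Set X)) (fun x => (W x).2)
    (fun x _ => Set.mem_iUnion.mpr ⟨x, hxW x⟩)
  have hD : 0 < ∏ x ∈ t, n x := Finset.prod_pos fun x _ => hn x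
  refine ⟨_, hD, ⟨normMap hD fun x => ?_⟩⟩
  obtain ⟨y, hy, hxy⟩ := Set.mem_iUnion₂.mp (ht (Set.mem_univ x))
  exact ⟨W y, hxy, hW y, n y, hn y, Finset.dvd_prod_of_mem _ hy, hb y⟩

end Groth.Agent.NormAmple
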