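import Groth.Agent.TMul.RelAmple
import Groth.Agent.TMul.AmpleFinite
import Groth.Agent.SymAlg.BundleMap
import Mathlib.AlgebraicGeometry.Morphisms.QuasiFinite

/-!
Ampleness descends along finite surjective morphisms carrying a norm on functions.
-/

set_option autoImplicit false
set_option backward.isDefEq.respectTransparency false
set_option linter.style.haveILetI false

universe u

open CategoryTheory CategoryTheory.Limits AlgebraicGeometry TopologicalSpace Opposite
open Groth.Agent.QC (res resO res_res res_self res_smul resO_resO app_res)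

noncomputable section

namespace Groth.Agent.NormAmple

open Groth.Agent

/-- A multiplicative, natural map on functions which is `c ↦ c ^ D` downstairs and detects non-vanishing
on fibres. -/
structure NormMap {X' X : Scheme.{u}} (g : X' ⟶ X) (D : ℕ) where
  ν : ∀ V : X.Opens, Γ(X', g ⁻¹ᵁ V) →* Γ(X, V)
  ν_res : ∀ {W V : X.Opens} (h : W ≤ V) (a : Γ(X', g ⁻¹ᵁ V)),
    ν W (resO X' (g.preimage_mono h) a) = resO X h (ν V a)
  ν_app : ∀ (V : X.Opens) (c : Γ(X, V)), ν V ((g.app V).hom c) = c ^ D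
  mem_basicOpen : ∀ (V : X.Opens) (a : Γ(X', g ⁻¹ᵁ V)) (y : X), y ∈ V →
    (∀ x', g.base x' = y → x' ∈ X'.basicOpen a) → y ∈ X.basicOpen (ν V a)
  exists_mem : ∀ (V : X.Opens) (a : Γ(X', g ⁻¹ᵁ V)) (y : X), y ∈ V → y ∈ X.basicOpen (ν V a) →
    ∃ x', g.base x' = y ∧ x' ∈ X'.basicOpen a

variable {X' X : Scheme.{u}} {g : X' ⟶ X}

set_option maxHeartbeats 1600000 in
/-- A section of the inverse image has a norm. -/
theorem exists_norm_section {D : ℕ} (N : NormMap g D) {K : X.Modules} (hK : PicF.IsInvertible K)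
    (σ : Coh.structureModule X' ⟶ (Scheme.Modules.pullback g).obj K) :
    ∃ T : Coh.structureModule X ⟶ CohB1.tensorPow K D,
      ∀ y : X, ((∀ x', g.base x' = y → x' ∈ CohB1.genLocus _ σ) → y ∈ CohB1.genLocus _ T) ∧
        (y ∈ CohB1.genLocus _ T → ∃ x', g.base x' = y ∧ x' ∈ CohB1.genLocus _ σ) := by
  classical
  have hK' : PicF.IsInvertible ((Scheme.Modules.pullback g).obj K) := PicLoc.isInvertible_pullback g hK
  let K' := (Scheme.Modules.pullback g).obj K
  let θ : K ⟶ (Scheme.Modules.pushforward g).obj K' := SymAlg.pullθ g (Iso.refl _)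
  choose U e hxU he using fun z : X => TMul.exists_isGen hK z
  let e' : ∀ z, Γ(K', g ⁻¹ᵁ U z) := fun z => θ.app (U z) (e z)
  have he' : ∀ z, TMul.IsGen (X := X') (N := K') (U := g ⁻¹ᵁ U z) (e' z) := fun z =>
    SymAlg.isGen_pullθ g (Iso.refl _) hK' (TMul.isQCoh_of_isInvertible hK) (e z) (he z)
  choose a ha using fun z => ((he' z) (g ⁻¹ᵁ U z) le_rfl).2 (TMul.val σ (g ⁻¹ᵁ U z))
  simp only [res_self] at ha
  let t : ∀ z, Γ(CohB1.tensorPow K D, U z) := fun z => N.ν (U z) (a z) • TMul.pw (e z) D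
  have hcomp : ∀ z w, res (CohB1.tensorPow K D) (inf_le_left : U z ⊓ U w ≤ U z) (t z) =
      res (CohB1.tensorPow K D) (inf_le_right : U z ⊓ U w ≤ U w) (t w) := by
    intro z w
    set V := U z ⊓ U w
    have hz : V ≤ U z := inf_le_left
    have hw : V ≤ U w := inf_le_right
    obtain ⟨c, hc⟩ := (he z V hz).2 (res K hw (e w))
    have hθ : res K' (g.preimage_mono hw) (e' w) =
        (g.app V).hom c • res K' (g.preimage_mono hz) (e' z) := by
      have h1 : θ.app V (res K hw (e w)) = θ.app V (c • res K hz (e z)) := congrArg _ hc.symm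
      rw [Scheme.Modules.Hom.app_smul, ← app_res, ← app_res] at h1
      exact h1
    have key : resO X' (g.preimage_mono hz) (a z) =
        resO X' (g.preimage_mono hw) (a w) * (g.app V).hom c := by
      refine ((he' z) (g ⁻¹ᵁ V) (g.preimage_mono hz)).1 ?_
      show resO X' (g.preimage_mono hz) (a z) • res K' (g.preimage_mono hz) (e' z) = _
      simp only [mul_smul, ← hθ]
      rw [← res_smul, ← res_smul, ha, ha, TMul.res_val, TMul.res_val]
    simp only [t, res_smul, TMul.res_pw]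
    rw [← N.ν_res, ← N.ν_res, key, map_mul, N.ν_app, ← hc, TMul.pw_smul, smul_smul]
  obtain ⟨T, hT, -⟩ := TopCat.Sheaf.existsUnique_gluing' (QC.abSheaf (CohB1.tensorPow K D)) U ⊤
    (fun z => homOfLE le_top) (fun z _ => Opens.mem_iSup.mpr ⟨z, hxU z⟩) t hcomp
  refine ⟨TMul.homOf T, fun y => ?_⟩
  have hval : TMul.val (TMul.homOf T) (U y) = N.ν (U y) (a y) • TMul.pw (e y) D := by
    rw [TMul.val_homOf]
    exact hT y
  have h1 := TMul.genLocus_inf (TMul.homOf T) (TMul.isGen_pw (he y) D) hval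
  have h2 := TMul.genLocus_inf σ (he' y) (ha y).symm
  have hy : y ∈ U y := hxU y
  refine ⟨fun h => (h1.ge ?_).2, fun h => ?_⟩
  · refine N.mem_basicOpen _ _ y hy fun x' hx' => h2.le ⟨?_, h x' hx'⟩
    show g.base x' ∈ U y
    rw [hx']; exact hy
  · obtain ⟨x', hx', hxa⟩ := N.exists_mem _ _ y hy (h1.le ⟨hy, h⟩)
    exact ⟨x', hx', (h2.ge hxa).2⟩

/-- Ampleness descends along a finite surjective morphism with a norm. -/
theorem isAmple_of_pullback [CompactSpace X] [IsFinite g] {D : ℕ} (hD : 0 < D)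
    (N : NormMap g D) {L : X.Modules} (hL : PicF.IsInvertible L)
    (h : CohB1.IsAmple ((Scheme.Modules.pullback g).obj L)) : CohB1.IsAmple L := by
  classical
  haveI := h.2.1
  haveI := TMul.isSeparated_of_isAmple h
  refine ⟨hL, inferInstance, fun x => ?_⟩
  obtain ⟨W, hW, hxW, -⟩ := exists_isAffineOpen_mem_and_subset (x := x) (U := ⊤) trivial
  obtain ⟨n, s, hZs, hsW, -⟩ := TMul.exists_finite_le h (Z := g.base ⁻¹' {x})
    (g.finite_preimage_singleton x) (U := g ⁻¹ᵁ W) (fun x' hx' => by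
      show g.base x' ∈ W
      rw [Set.mem_preimage.mp hx' |> Set.mem_singleton_iff.mp]
      exact hxW)
  obtain ⟨i⟩ := TMul.nonempty_pullPowIso g L (n + 1)
  obtain ⟨T, hT⟩ := exists_norm_section N (TMul.isInvertible_tensorPow hL (n + 1)) (s ≫ i.hom)
  simp only [TMul.genLocus_comp] at hT
  obtain ⟨d, rfl⟩ : ∃ d, D = d + 1 := ⟨D - 1, by omega⟩
  obtain ⟨j⟩ := TMul.nonempty_powMulIso L (n + 1) (d + 1)
  obtain ⟨m, hm⟩ : ∃ m, (n + 1) * (d + 1) = m + 1 := ⟨n * d + n + d, by ring⟩
  let j' := j ≪≫ eqToIso (congrArg (CohB1.tensorPow L) hm)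
  refine ⟨m, T ≫ j'.hom, ?_⟩
  rw [TMul.genLocus_comp]
  refine ⟨(hT x).1 fun x' hx' => hZs (by simpa using hx'), ?_⟩
  refine TMul.isAffineOpen_genLocus_of_le
    (TMul.isInvertible_tensorPow (TMul.isInvertible_tensorPow hL _) _) T hW fun y hy => ?_
  obtain ⟨x', hx', hxs⟩ := (hT y).2 hy
  have := hsW hxs
  rwa [← hx']

end Groth.Agent.NormAmple
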