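import Mathlib

/-!
The norm of an element of a finite free algebra as a product of values of characters.
-/

universe u

open Polynomial Module
open scoped TensorProduct

noncomputable section

namespace Groth.Agent.NormAmple

/-- Over an algebraically closed field the norm is a product of values of ring homomorphisms. -/
theorem exists_roots {A B L : Type u} [CommRing A] [CommRing B] [Algebra A B] [Field L] [IsAlgClosed L]
    {n : ℕ} (b : Basis (Fin n) A B) (φ : A →+* L) (a : B) :
    ∃ s : Multiset L, s.card = n ∧ φ (Algebra.norm A a) = s.prod ∧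
      ∀ l ∈ s, ∃ χ : B →+* L, χ.comp (algebraMap A B) = φ ∧ χ a = l := by
  classical
  letI := φ.toAlgebra
  let C := L ⊗[A] B
  let b' : Basis (Fin n) L C := b.baseChange L
  let c : C := 1 ⊗ₜ a
  have hM : Algebra.leftMulMatrix b' c = φ.mapMatrix (Algebra.leftMulMatrix b a) := by
    ext i j
    rw [Algebra.leftMulMatrix_eq_repr_mul, RingHom.mapMatrix_apply, Matrix.map_apply,
      Algebra.leftMulMatrix_eq_repr_mul]
    have e : c * b' j = (1 : L) ⊗ₜ[A] (a * b j) := by
      show (1 : L) ⊗ₜ[A] a * (b.baseChange L j) = _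
      rw [Basis.baseChange_apply]
      exact (Algebra.TensorProduct.tmul_mul_tmul _ _ _ _).trans (by rw [one_mul])
    rw [e]
    show (b.baseChange L).repr ((1 : L) ⊗ₜ[A] (a * b j)) i = _
    rw [Basis.baseChange_repr_tmul]
    rw [Algebra.smul_def, mul_one]
    rfl
  let M := Algebra.leftMulMatrix b' c
  refine ⟨M.charpoly.roots, ?_, ?_, fun l hl => ?_⟩
  · rw [IsAlgClosed.card_roots_eq_natDegree, Matrix.charpoly_natDegree_eq_dim, Fintype.card_fin]
  · rw [← Matrix.det_eq_prod_roots_charpoly, Algebra.norm_eq_matrix_det b, RingHom.map_det]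
    show _ = (Algebra.leftMulMatrix b' c).det
    rw [hM]
  · have hroot : M.charpoly.IsRoot l := (Polynomial.mem_roots'.mp hl).2
    have hspec : l ∈ spectrum L M := Matrix.mem_spectrum_iff_isRoot_charpoly.mpr hroot
    have hnu : ¬ IsUnit (algebraMap L C l - c) := fun h => hspec (by
      have h' := h.map (Algebra.leftMulMatrix b')
      rw [map_sub, AlgHom.commutes] at h'
      exact h')
    obtain ⟨m, hm, hcm⟩ := Ideal.exists_le_maximal _
      (fun h => hnu (Ideal.span_singleton_eq_top.mp h))
    haveI := hm
    haveI : Module.Finite L C := Module.Finite.of_basis b'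
    letI := Ideal.Quotient.field m
    haveI : Module.Finite L (C ⧸ m) :=
      Module.Finite.of_surjective (Ideal.Quotient.mkₐ L m).toLinearMap Ideal.Quotient.mk_surjective
    have hbij : Function.Bijective (algebraMap L (C ⧸ m)) :=
      IsAlgClosed.algebraMap_bijective_of_isIntegral
    let e := RingEquiv.ofBijective _ hbij
    let χ : B →+* L :=
      e.symm.toRingHom.comp ((Ideal.Quotient.mk m).comp
        (Algebra.TensorProduct.includeRight (R := A) (A := L) (B := B)).toRingHom)
    refine ⟨χ, RingHom.ext fun x => e.symm_apply_eq.mpr ?_, e.symm_apply_eq.mpr ?_⟩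
    · show Ideal.Quotient.mk m ((1 : L) ⊗ₜ[A] algebraMap A B x) = Ideal.Quotient.mk m (algebraMap L C (φ x))
      refine congrArg _ ?_
      rw [Algebra.algebraMap_eq_smul_one, TensorProduct.tmul_smul]
      show x • (1 : C) = algebraMap L C (algebraMap A L x)
      rw [← IsScalarTower.algebraMap_apply, Algebra.algebraMap_eq_smul_one]
    · show Ideal.Quotient.mk m c = Ideal.Quotient.mk m (algebraMap L C l)
      exact (Ideal.Quotient.eq.mpr (hcm (Ideal.mem_span_singleton_self _))).symm

/-- The norm lies in an integrally closed subring, and in its maximal ideal when all characters do. -/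
theorem exists_eq_norm {A B O K : Type u} [CommRing A] [CommRing B] [Algebra A B] [CommRing O] [IsDomain O]
    [IsIntegrallyClosed O] [IsLocalRing O] [Field K] [Algebra O K] [IsFractionRing O K] {n : ℕ} (hn : 0 < n)
    (b : Basis (Fin n) A B) (φ : A →+* K) (a : B) {e : ℕ} (he : 0 < e)
    (hint : ∀ χ : B →+* AlgebraicClosure K,
      χ.comp (algebraMap A B) = (algebraMap K (AlgebraicClosure K)).comp φ → IsIntegral O (χ a)) :
    ∃ z : O, algebraMap O K z = φ (Algebra.norm A a) ^ e ∧
      ((∀ (χ : B →+* AlgebraicClosure K) (q : Ideal (integralClosure O (AlgebraicClosure K)))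
          (hχ : χ.comp (algebraMap A B) = (algebraMap K (AlgebraicClosure K)).comp φ),
          q.IsPrime → q.comap (algebraMap O _) = IsLocalRing.maximalIdeal O →
          (⟨χ a, hint χ hχ⟩ : integralClosure O (AlgebraicClosure K)) ∈ q) →
        z ∈ IsLocalRing.maximalIdeal O) := by
  classical
  let L := AlgebraicClosure K
  obtain ⟨s, hcard, hprod, hs⟩ := exists_roots b ((algebraMap K L).comp φ) a
  have hsint : ∀ l ∈ s, IsIntegral O l := fun l hl => by
    obtain ⟨χ, hχ, rfl⟩ := hs l hl
    exact hint χ hχ
  have h1 : IsIntegral O (algebraMap K L (φ (Algebra.norm A a) ^ e)) := by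
    rw [map_pow]
    refine IsIntegral.pow ?_ e
    show IsIntegral O (((algebraMap K L).comp φ) (Algebra.norm A a))
    rw [hprod]
    exact IsIntegral.multiset_prod hsint
  obtain ⟨z, hz⟩ := IsIntegrallyClosed.isIntegral_iff.mp
    ((isIntegral_algebraMap_iff (algebraMap K L).injective).mp h1)
  refine ⟨z, hz, fun hall => ?_⟩
  let R := integralClosure O L
  haveI : FaithfulSMul O L := (faithfulSMul_iff_algebraMap_injective O L).mpr (by
    rw [IsScalarTower.algebraMap_eq O K L]
    exact (algebraMap K L).injective.comp (IsFractionRing.injective O K))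
  haveI : Algebra.IsIntegral O R := integralClosure.AlgebraIsIntegral
  obtain ⟨q, hqm, hq⟩ := Ideal.exists_ideal_over_maximal_of_isIntegral (S := R)
    (IsLocalRing.maximalIdeal O) (by
      rw [(RingHom.injective_iff_ker_eq_bot (algebraMap O R)).mp (fun x y hxy => ?_)]
      · exact bot_le
      · exact FaithfulSMul.algebraMap_injective O L (congrArg Subtype.val hxy))
  have hmem : ∀ l (hl : l ∈ s), (⟨l, hsint l hl⟩ : R) ∈ q := fun l hl => by
    obtain ⟨χ, hχ, rfl⟩ := hs l hl
    exact hall χ q hχ hqm.isPrime hq
  let s' : Multiset R := s.attach.map fun l => ⟨l.1, hsint l.1 l.2⟩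
  have hs' : (algebraMap O R z) = s'.prod ^ e := by
    refine Subtype.ext ?_
    show algebraMap O L z = _
    rw [SubmonoidClass.coe_pow, IsScalarTower.algebraMap_apply O K L, hz, map_pow,
      show ((s'.prod : R) : L) = (s'.map (fun x : R => (x : L))).prod from map_multiset_prod R.val s']
    refine congrArg (· ^ e) ?_
    rw [Multiset.map_map]
    show ((algebraMap K L).comp φ) (Algebra.norm A a) = (s.attach.map Subtype.val).prod
    rw [Multiset.attach_map_val, hprod]
  rw [← hq, Ideal.mem_comap, hs']
  refine Ideal.pow_mem_of_mem q ?_ e he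
  obtain ⟨l, hl⟩ := Multiset.card_pos_iff_exists_mem.mp (show 0 < s'.card by
    simp only [s', Multiset.card_map, Multiset.card_attach, hcard]; exact hn)
  obtain ⟨l', -, rfl⟩ := Multiset.mem_map.mp hl
  exact Ideal.mem_of_dvd q (Multiset.dvd_prod hl) (hmem l'.1 l'.2)

end Groth.Agent.NormAmple
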