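import Groth.Agent.NormAmple.Rel
import Groth.Agent.NormAmple.Eigen
import Groth.Agent.TMul.RelAmple

/-!
Norms of finite morphisms onto reduced Noetherian schemes, normal or locally free at each point.
-/

set_option autoImplicit false
set_option backward.isDefEq.respectTransparency false
set_option linter.style.haveILetI false
set_option linter.unusedSectionVars false

universe u

open CategoryTheory CategoryTheory.Limits AlgebraicGeometry TopologicalSpace Opposite Module
open Groth.Agent.QC (res resO res_res res_self res_smul resO_resO resO_self app_res)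

noncomputable section

namespace Groth.Agent.NormAmple

open Groth.Agent

variable {X' X : Scheme.{u}} {g : X' ⟶ X}

/-- A point with reduced Noetherian surroundings and local ring a domain has a neighbourhood with integral
ring of functions. -/
lemma exists_domain_nhd [IsLocallyNoetherian X] {y : X} (hy : IsDomain (X.presheaf.stalk y)) :
    ∃ W : X.Opens, IsAffineOpen W ∧ y ∈ W ∧ IsDomain Γ(X, W) := by
  classical
  obtain ⟨W, hW, hyW, -⟩ := exists_isAffineOpen_mem_and_subset (x := y) (U := ⊤) trivial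
  haveI : IsNoetherianRing Γ(X, W) := IsLocallyNoetherian.component_noetherian ⟨W, hW⟩
  letI := (X.presheaf.germ W y hyW).hom.toAlgebra
  haveI := hW.isLocalization_stalk ⟨y, hyW⟩
  let p := (hW.primeIdealOf ⟨y, hyW⟩).asIdeal
  let O := X.presheaf.stalk y
  obtain ⟨T, hT⟩ := (IsNoetherian.noetherian (RingHom.ker (algebraMap Γ(X, W) O)) :
    (RingHom.ker (algebraMap Γ(X, W) O)).FG)
  have hk : ∀ t ∈ T, ∃ s : Γ(X, W), s ∉ p ∧ s * t = 0 := fun t ht => by
    have h0 : algebraMap Γ(X, W) O t = 0 :=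
      RingHom.mem_ker.mp (hT ▸ Ideal.subset_span (Finset.mem_coe.mpr ht))
    obtain ⟨m, hm⟩ := (IsLocalization.map_eq_zero_iff p.primeCompl O t).mp h0
    exact ⟨m.1, m.2, hm⟩
  choose! s hs hst using hk
  let σ : Γ(X, W) := ∏ t ∈ T, s t
  have hσ : σ ∈ p.primeCompl := prod_mem fun t ht => hs t ht
  have hyσ : y ∈ X.basicOpen σ := (X.mem_basicOpen σ y hyW).mpr (IsLocalization.map_units (M := p.primeCompl) O ⟨σ, hσ⟩)
  refine ⟨X.basicOpen σ, hW.basicOpen σ, hyσ, ?_⟩
  letI := (resO X (X.basicOpen_le σ)).toAlgebra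
  haveI : IsLocalization (Submonoid.powers σ) Γ(X, X.basicOpen σ) := hW.isLocalization_basicOpen σ
  refine Function.Injective.isDomain (X.presheaf.germ (X.basicOpen σ) y hyσ).hom ?_
  rw [injective_iff_map_eq_zero]
  intro c hc
  obtain ⟨⟨a, m⟩, ha⟩ := IsLocalization.surj (Submonoid.powers σ) c
  have h0 : algebraMap Γ(X, W) O a = 0 := by
    have := congrArg (X.presheaf.germ (X.basicOpen σ) y hyσ).hom ha
    rw [map_mul, hc, zero_mul] at this
    refine Eq.trans ?_ this.symm
    exact (X.presheaf.germ_res_apply (homOfLE (X.basicOpen_le σ)) y hyσ a).symm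
  have hmem : a ∈ Submodule.span Γ(X, W) (T : Set Γ(X, W)) := by rw [hT]; exact RingHom.mem_ker.mpr h0
  have hzero : σ * a = 0 := by
    clear ha h0
    induction hmem using Submodule.span_induction with
    | mem t ht =>
      obtain ⟨d, hd⟩ := Finset.dvd_prod_of_mem s (Finset.mem_coe.mp ht)
      rw [show σ = s t * d from hd, mul_right_comm, hst t ht, zero_mul]
    | zero => rw [mul_zero]
    | add x y _ _ hx hy => rw [mul_add, hx, hy, add_zero]
    | smul r x _ hx => rw [smul_eq_mul, mul_left_comm, hx, mul_zero]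
  have hu : IsUnit (algebraMap Γ(X, W) Γ(X, X.basicOpen σ) σ) :=
    IsLocalization.map_units (M := Submonoid.powers σ) _ ⟨σ, 1, pow_one σ⟩
  have h1 : algebraMap Γ(X, W) Γ(X, X.basicOpen σ) a = 0 := by
    have := congrArg (algebraMap Γ(X, W) Γ(X, X.basicOpen σ)) hzero
    rw [map_mul, map_zero] at this
    exact hu.mul_right_eq_zero.mp this
  rw [h1] at ha
  exact (IsLocalization.map_units (M := Submonoid.powers σ) Γ(X, X.basicOpen σ) m).mul_left_eq_zero.mp ha

variable (g) in
/-- Every point is normal or has a free neighbourhood. -/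
def NormalOrFree : Prop :=
  ∀ x : X, (IsDomain (X.presheaf.stalk x) ∧ IsIntegrallyClosed (X.presheaf.stalk x)) ∨
    ∃ (W : X.Opens) (n : ℕ), x ∈ W ∧ 0 < n ∧ IsAffineOpen W ∧
      (letI := (g.app W).hom.toAlgebra
       Nonempty (Basis (Fin n) Γ(X, W) Γ(X', g ⁻¹ᵁ W)))

/-- Generic freeness. -/
lemma exists_free_of_domain [IsLocallyNoetherian X] [IsFinite g] [Surjective g] {W : X.Opens}
    (hW : IsAffineOpen W) (hd : IsDomain Γ(X, W)) :
    ∃ (r : Γ(X, W)) (n : ℕ), r ≠ 0 ∧ 0 < n ∧
      (letI := (g.app (X.basicOpen r)).hom.toAlgebra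
       Nonempty (Basis (Fin n) Γ(X, X.basicOpen r) Γ(X', g ⁻¹ᵁ X.basicOpen r))) := by
  classical
  haveI := hd
  haveI : IsNoetherianRing Γ(X, W) := IsLocallyNoetherian.component_noetherian ⟨W, hW⟩
  let M := (Coh.push g).obj (Coh.structureModule X')
  have hM : Coh.IsQCoh M := by
    haveI : (Coh.structureModule X').IsQuasicoherent := QC.isQCoh_unit X'
    exact QC.isQCoh_pushforward g
  let A := Γ(X, W)
  haveI : Module.Finite A Γ(M, W) := IsFinite.finite_app g W hW
  haveI : Module.FinitePresentation A Γ(M, W) := Module.finitePresentation_of_finite A _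
  haveI : Module.Free (Localization (nonZeroDivisors A)) (LocalizedModule (nonZeroDivisors A) Γ(M, W)) := by
    letI : Field (Localization (nonZeroDivisors A)) := IsFractionRing.toField A
    exact Module.Free.of_divisionRing _ _
  obtain ⟨r, hr, hfree, -⟩ := Module.FinitePresentation.exists_free_localizedModule_powers
    (nonZeroDivisors A) (LocalizedModule.mkLinearMap (nonZeroDivisors A) Γ(M, W))
    (Localization (nonZeroDivisors A))
  have hr0 : r ≠ 0 := nonZeroDivisors.ne_zero hr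
  haveI := hfree
  obtain ⟨h1, h2⟩ := LocFree.free_finite_basicOpen hM hW r
  haveI := h1; haveI := h2
  let A' := Γ(X, X.basicOpen r)
  letI : Algebra A A' := (resO X (X.basicOpen_le r)).toAlgebra
  haveI : IsLocalization (Submonoid.powers r) A' := hW.isLocalization_basicOpen r
  letI := (g.app (X.basicOpen r)).hom.toAlgebra
  let B' := Γ(X', g ⁻¹ᵁ X.basicOpen r)
  let l : Γ(M, X.basicOpen r) ≃ₗ[A'] B' :=
    { toFun := fun c => c
      invFun := fun c => c
      map_add' := fun _ _ => rfl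
      map_smul' := fun _ _ => rfl
      left_inv := fun _ => rfl
      right_inv := fun _ => rfl }
  let b' := ((Module.Free.chooseBasis A' Γ(M, X.basicOpen r)).map l).reindex (Fintype.equivFin _)
  refine ⟨r, _, hr0, Fintype.card_pos_iff.mpr ?_, ⟨b'⟩⟩
  haveI : Nontrivial A' := by
    refine nontrivial_of_ne (0 : A') 1 fun h => ?_
    rw [← map_zero (algebraMap A A'), ← map_one (algebraMap A A')] at h
    obtain ⟨⟨c, k, rfl⟩, hc⟩ := (IsLocalization.eq_iff_exists (Submonoid.powers r) A').1 h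
    simp only [mul_zero, mul_one] at hc
    exact pow_ne_zero k hr0 hc.symm
  by_contra hempty
  rw [not_nonempty_iff] at hempty
  haveI := hempty
  haveI : IsEmpty (Fin (Fintype.card (Module.Free.ChooseBasisIndex A' Γ(M, X.basicOpen r)))) :=
    (Fintype.equivFin _).symm.isEmpty
  haveI : Subsingleton B' := b'.repr.toEquiv.subsingleton
  have hne : (X.basicOpen r : Set X).Nonempty := by
    rw [Set.nonempty_iff_ne_empty]
    intro h
    have hbot : X.basicOpen r = ⊥ := Opens.ext h
    have : Subsingleton A' := by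
      show Subsingleton Γ(X, X.basicOpen r)
      rw [hbot]; infer_instance
    exact false_of_nontrivial_of_subsingleton A'
  obtain ⟨x, hx⟩ := hne
  obtain ⟨x', hx'⟩ := g.surjective x
  have hx'W : x' ∈ g ⁻¹ᵁ X.basicOpen r := by
    show g.base x' ∈ X.basicOpen r
    rw [hx']; exact hx
  have hu := (X'.basicOpen_of_isUnit (isUnit_of_subsingleton (0 : B'))).ge hx'W
  rw [X'.basicOpen_zero] at hu
  exact hu

/-- A free affine open, with its rank. -/
def IsFreeOpen (g : X' ⟶ X) (W : X.Opens) (n : ℕ) : Prop :=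
  0 < n ∧ IsAffineOpen W ∧ (letI := (g.app W).hom.toAlgebra
    Nonempty (Basis (Fin n) Γ(X, W) Γ(X', g ⁻¹ᵁ W)))

/-- Ranks agree at common points. -/
lemma IsFreeOpen.rank_eq [IsAffineHom g] {W₁ W₂ : X.Opens} {n₁ n₂ : ℕ} (h₁ : IsFreeOpen g W₁ n₁)
    (h₂ : IsFreeOpen g W₂ n₂) {y : X} (hy₁ : y ∈ W₁) (hy₂ : y ∈ W₂) : n₁ = n₂ := by
  classical
  obtain ⟨r₁, r₂, e, hy⟩ := exists_basicOpen_le_affine_inter h₁.2.1 h₂.2.1 y ⟨hy₁, hy₂⟩
  have hne : ∀ B : X.Opens, y ∈ B → Nontrivial Γ(X, B) := fun B hB => by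
    haveI : Nonempty B := ⟨⟨y, hB⟩⟩
    infer_instance
  have key : ∀ {W : X.Opens} {n : ℕ} (h : IsFreeOpen g W n) (r : Γ(X, W)), Nontrivial Γ(X, X.basicOpen r) →
      (letI := (g.app (X.basicOpen r)).hom.toAlgebra
       finrank Γ(X, X.basicOpen r) Γ(X', g ⁻¹ᵁ X.basicOpen r) = n) := by
    intro W n h r hnt
    haveI := hnt
    obtain ⟨-, hW, hb⟩ := h
    obtain ⟨b⟩ := hb
    letI : Algebra Γ(X, W) Γ(X', g ⁻¹ᵁ W) := (g.app W).hom.toAlgebra
    letI : Algebra Γ(X, X.basicOpen r) Γ(X', g ⁻¹ᵁ X.basicOpen r) := (g.app (X.basicOpen r)).hom.toAlgebra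
    letI : Algebra Γ(X, W) Γ(X, X.basicOpen r) := (resO X (X.basicOpen_le r)).toAlgebra
    letI : Algebra Γ(X', g ⁻¹ᵁ W) Γ(X', g ⁻¹ᵁ X.basicOpen r) :=
      (resO X' (g.preimage_mono (X.basicOpen_le r))).toAlgebra
    letI : Algebra Γ(X, W) Γ(X', g ⁻¹ᵁ X.basicOpen r) :=
      ((resO X' (g.preimage_mono (X.basicOpen_le r))).comp (g.app W).hom).toAlgebra
    haveI : IsScalarTower Γ(X, W) Γ(X', g ⁻¹ᵁ W) Γ(X', g ⁻¹ᵁ X.basicOpen r) :=
      IsScalarTower.of_algebraMap_eq fun _ => rfl
    haveI : IsScalarTower Γ(X, W) Γ(X, X.basicOpen r) Γ(X', g ⁻¹ᵁ X.basicOpen r) :=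
      IsScalarTower.of_algebraMap_eq fun c => congr(($(g.naturality (homOfLE (X.basicOpen_le r)).op)).hom c).symm
    haveI : IsLocalization (Submonoid.powers r) Γ(X, X.basicOpen r) := hW.isLocalization_basicOpen r
    haveI : IsLocalization (Algebra.algebraMapSubmonoid Γ(X', g ⁻¹ᵁ W) (Submonoid.powers r))
        Γ(X', g ⁻¹ᵁ X.basicOpen r) := by
      rw [Algebra.algebraMapSubmonoid_powers]
      exact (hW.preimage g).isLocalization_of_eq_basicOpen ((g.app W).hom r)
        (homOfLE (g.preimage_mono (X.basicOpen_le r))) (g.preimage_basicOpen r)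
    exact (finrank_eq_card_basis (b.localizationLocalization Γ(X, X.basicOpen r) (Submonoid.powers r)
      Γ(X', g ⁻¹ᵁ X.basicOpen r))).trans (Fintype.card_fin n)
  have k₁ := key h₁ r₁ (hne _ hy)
  have k₂ := key h₂ r₂ (hne _ (e.le hy))
  have gen : ∀ (B B' : X.Opens), B = B' →
      (letI := (g.app B).hom.toAlgebra; finrank Γ(X, B) Γ(X', g ⁻¹ᵁ B)) =
      (letI := (g.app B').hom.toAlgebra; finrank Γ(X, B') Γ(X', g ⁻¹ᵁ B')) := by
    rintro B B' rfl; rfl
  exact k₁.symm.trans ((gen _ _ e).trans k₂)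

/-- A uniform exponent, making every free open good, and good opens dense. -/
theorem exists_degree [IsNoetherian X] [IsReduced X] [IsFinite g] [Surjective g] (h : NormalOrFree g) :
    ∃ D, 0 < D ∧ (∀ W n, IsFreeOpen g W n → (W : Set X).Nonempty → Good g D W) ∧
      ∀ O : X.Opens, (O : Set X).Nonempty → ∃ W, W ≤ O ∧ (W : Set X).Nonempty ∧ Good g D W := by
  classical
  haveI : Finite (irreducibleComponents X) :=
    TopologicalSpace.NoetherianSpace.finite_irreducibleComponents.to_subtype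
  haveI := Fintype.ofFinite (irreducibleComponents X)
  choose η hη using fun C : irreducibleComponents X =>
    QuasiSober.sober C.2.1 (isClosed_of_mem_irreducibleComponents C.1 C.2)
  have hfree : ∀ C, ∃ W n, IsFreeOpen g W n ∧ η C ∈ W := fun C => by
    rcases h (η C) with ⟨hd, -⟩ | ⟨W, n, hx, hn, hW, hb⟩
    · obtain ⟨W, hW, hηW, hdW⟩ := exists_domain_nhd hd
      haveI := hdW
      obtain ⟨r, n, hr, hn, hb⟩ := exists_free_of_domain (g := g) hW hdW
      refine ⟨X.basicOpen r, n, ⟨hn, hW.basicOpen r, hb⟩, ?_⟩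
      let ξ : X := hW.fromSpec (⟨⊥, Ideal.isPrime_bot⟩ : PrimeSpectrum Γ(X, W))
      have hξr : ξ ∈ X.basicOpen r := by
        show (⟨⊥, Ideal.isPrime_bot⟩ : PrimeSpectrum Γ(X, W)) ∈ hW.fromSpec ⁻¹ᵁ X.basicOpen r
        rw [hW.fromSpec_preimage_basicOpen]
        exact fun h => hr (Ideal.mem_bot.mp h)
      have hsp : ξ ⤳ η C := by
        have h0 : (⟨⊥, Ideal.isPrime_bot⟩ : PrimeSpectrum Γ(X, W)) ⤳ hW.primeIdealOf ⟨η C, hηW⟩ :=
          (PrimeSpectrum.le_iff_specializes _ _).mp bot_le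
        have := h0.map hW.fromSpec.continuous
        rwa [hW.fromSpec_primeIdealOf ⟨η C, hηW⟩] at this
      have hC : closure ({ξ} : Set X) = C.1 := by
        refine (C.2.2 isIrreducible_singleton.closure ?_).antisymm ?_
        · rw [← (hη C).def]
          exact hsp.closure_subset
        · rw [← (hη C).def]
          exact hsp.closure_subset
      have hgen : ξ = η C := IsGenericPoint.eq hC (hη C)
      exact hgen ▸ hξr
    · exact ⟨W, n, ⟨hn, hW, hb⟩, hx⟩
  choose F nF hF hηF using hfree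
  have hmem : ∀ O : X.Opens, (O : Set X).Nonempty → ∃ C, η C ∈ O := fun O ⟨x, hx⟩ => by
    refine ⟨⟨irreducibleComponent x, irreducibleComponent_mem_irreducibleComponents x⟩, ?_⟩
    exact ((hη _).specializes mem_irreducibleComponent).mem_open O.2 hx
  have hgood : ∀ W n, IsFreeOpen g W n → (W : Set X).Nonempty → Good g (∏ C, nF C) W := fun W n hW hne => by
    obtain ⟨C, hC⟩ := hmem W hne
    refine ⟨hW.2.1, n, hW.1, ?_, hW.2.2⟩
    rw [hW.rank_eq (hF C) hC (hηF C)]
    exact Finset.dvd_prod_of_mem _ (Finset.mem_univ C)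
  refine ⟨∏ C, nF C, Finset.prod_pos fun C _ => (hF C).1, hgood, fun O hO => ?_⟩
  obtain ⟨C, hC⟩ := hmem O hO
  obtain ⟨r, hrO, hr⟩ := (hF C).2.1.exists_basicOpen_le ⟨η C, hC⟩ (hηF C)
  exact ⟨_, hrO, ⟨η C, hr⟩, (good_basicOpen g _ (hgood _ _ (hF C) ⟨η C, hηF C⟩) r).1⟩

end Groth.Agent.NormAmple
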