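import Groth.Agent.NormAmple.Normal

/-!
Existence of norms when each point is normal or has a free neighbourhood.
-/

set_option autoImplicit false
set_option backward.isDefEq.respectTransparency false
set_option linter.style.haveILetI false
set_option linter.unusedSectionVars false

universe u

open CategoryTheory CategoryTheory.Limits AlgebraicGeometry TopologicalSpace Opposite Module
open Groth.Agent.QC (res resO res_res res_self res_smul resO_resO resO_self app_res)

noncomputable section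

namespace Groth.Agent.NormAmple

open Groth.Agent

variable {X' X : Scheme.{u}} {g : X' ⟶ X} {D : ℕ}

/-- Sections agreeing on the good opens agree. -/
lemma eq_of_isNorm [IsReduced X] [IsAffineHom g]
    (hdense : ∀ O : X.Opens, (O : Set X).Nonempty → ∃ W, W ≤ O ∧ (W : Set X).Nonempty ∧ Good g D W)
    {V : X.Opens} {a : Γ(X', g ⁻¹ᵁ V)} {s t : Γ(X, V)} (hs : IsNorm g D a s) (ht : IsNorm g D a t) :
    s = t := by
  rw [← sub_eq_zero, ← AlgebraicGeometry.basicOpen_eq_bot_iff]
  by_contra hne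
  obtain ⟨W, hW, ⟨x, hx⟩, hG⟩ := hdense _ (by rwa [Set.nonempty_iff_ne_empty, ← Opens.coe_bot, Ne, SetLike.coe_set_eq])
  have hWV : W ≤ V := hW.trans (X.basicOpen_le _)
  have h0 : resO X hWV (s - t) = 0 := by rw [map_sub, hs W hWV hG, ht W hWV hG, sub_self]
  have h1 : x ∈ X.basicOpen (resO X hWV (s - t)) := (X.basicOpen_res (s - t) _).ge ⟨hx, hW hx⟩
  rw [h0, X.basicOpen_zero] at h1
  exact h1

set_option maxHeartbeats 1600000 in
/-- The norm near a normal point. -/
theorem exists_local_norm_of_nhd [IsReduced X] [IsFinite g] (hD : 0 < D)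
    (hdense : ∀ O : X.Opens, (O : Set X).Nonempty → ∃ W, W ≤ O ∧ (W : Set X).Nonempty ∧ Good g D W)
    {V : X.Opens} (a : Γ(X', g ⁻¹ᵁ V)) {y : X} (hy : y ∈ V)
    (hnor : IsDomain (X.presheaf.stalk y) ∧ IsIntegrallyClosed (X.presheaf.stalk y))
    (hnhd : ∃ W : X.Opens, IsAffineOpen W ∧ y ∈ W ∧ IsDomain Γ(X, W)) :
    ∃ (W : X.Opens) (hWV : W ≤ V) (_ : y ∈ W) (t : Γ(X, W)),
      IsNorm g D (resO X' (g.preimage_mono hWV) a) t ∧
      (y ∈ X.basicOpen t → ∃ x', g.base x' = y ∧ x' ∈ X'.basicOpen a) := by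
  classical
  haveI := hnor.1
  haveI := hnor.2
  obtain ⟨W₀, hW₀, hyW₀, hd⟩ := hnhd
  obtain ⟨σ, hσV, hyσ⟩ := hW₀.exists_basicOpen_le (V := V) ⟨y, hy⟩ hyW₀
  haveI : IsDomain Γ(X, W₀) := hd
  let W := X.basicOpen σ
  have hW : IsAffineOpen W := hW₀.basicOpen σ
  letI := (resO X (X.basicOpen_le σ)).toAlgebra
  haveI : IsLocalization (Submonoid.powers σ) Γ(X, W) := hW₀.isLocalization_basicOpen σ
  have hσ0 : σ ≠ 0 := fun h => by
    rw [h, X.basicOpen_zero] at hyσ
    exact hyσ
  haveI : IsDomain Γ(X, W) :=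
    IsLocalization.isDomain_of_le_nonZeroDivisors (R := Γ(X, W₀)) (S := Γ(X, W)) (M := Submonoid.powers σ)
      (Submonoid.powers_le.mpr (mem_nonZeroDivisors_of_ne_zero hσ0))
  obtain ⟨W₁, hW₁, ⟨z₁, hz₁⟩, hG₁⟩ := hdense W ⟨y, hyσ⟩
  obtain ⟨r, r₁, er, hzr⟩ := exists_basicOpen_le_affine_inter hW hG₁.1 z₁ ⟨hW₁ hz₁, hz₁⟩
  have hG : Good g D (X.basicOpen r) := by rw [er]; exact (good_basicOpen g D hG₁ r₁).1
  have hr0 : r ≠ 0 := fun h => by
    rw [h, X.basicOpen_zero] at hzr
    exact hzr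
  let A := Γ(X, W)
  let A' := Γ(X, X.basicOpen r)
  let B' := Γ(X', g ⁻¹ᵁ X.basicOpen r)
  let O := X.presheaf.stalk y
  letI : Algebra A O := (X.presheaf.germ W y hyσ).hom.toAlgebra
  haveI : IsLocalization.AtPrime O (hW.primeIdealOf ⟨y, hyσ⟩).asIdeal := hW.isLocalization_stalk ⟨y, hyσ⟩
  set p := (hW.primeIdealOf ⟨y, hyσ⟩).asIdeal with hp
  letI : Algebra A A' := (resO X (X.basicOpen_le r)).toAlgebra
  haveI : IsLocalization (Submonoid.powers r) A' := hW.isLocalization_basicOpen r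
  let K := FractionRing O
  have hAO : Function.Injective (algebraMap A O) := IsLocalization.injective O p.primeCompl_le_nonZeroDivisors
  have hAK : Function.Injective ((algebraMap O K).comp (algebraMap A O)) :=
    (IsFractionRing.injective O K).comp hAO
  have hu : IsUnit (((algebraMap O K).comp (algebraMap A O)) r) :=
    (map_ne_zero_iff _ hAK).mpr hr0 |>.isUnit
  let φ : A' →+* K := IsLocalization.Away.lift r hu
  have hφ : ∀ c : A, φ (algebraMap A A' c) = algebraMap O K (algebraMap A O c) :=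
    fun c => IsLocalization.Away.lift_eq r hu c
  have hφinj : Function.Injective φ := by
    rw [injective_iff_map_eq_zero]
    intro c hc
    obtain ⟨⟨d, m⟩, hd⟩ := IsLocalization.surj (Submonoid.powers r) c
    have h0 : φ (algebraMap A A' d) = 0 := by rw [← hd, map_mul, hc, zero_mul]
    rw [hφ] at h0
    rw [hAK (h0.trans (map_zero ((algebraMap O K).comp (algebraMap A O))).symm), map_zero] at hd
    exact (IsLocalization.map_units A' m).mul_left_eq_zero.mp hd
  obtain ⟨-, n, hn, hnD, ⟨b⟩⟩ := id hG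
  letI : Algebra A' B' := (g.app (X.basicOpen r)).hom.toAlgebra
  have hsq : ∀ c : A, algebraMap A' B' (algebraMap A A' c) =
      resO X' (g.preimage_mono (X.basicOpen_le r)) ((g.app W).hom c) := fun c =>
    congr(($(g.naturality (homOfLE (X.basicOpen_le r)).op)).hom c)
  let aW := resO X' (g.preimage_mono hσV) a
  let a' := resO X' (g.preimage_mono (X.basicOpen_le r)) aW
  let L := AlgebraicClosure K
  have hpt : ∀ c : A, algebraMap O L (algebraMap A O c) = algebraMap K L (φ (algebraMap A A' c)) := fun c => by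
    rw [hφ]
    exact IsScalarTower.algebraMap_apply O K L _
  have hint : ∀ χ : B' →+* L, χ.comp (algebraMap A' B') = (algebraMap K L).comp φ →
      ∀ c : Γ(X', g ⁻¹ᵁ W), IsIntegral O (χ (resO X' (g.preimage_mono (X.basicOpen_le r)) c)) := by
    intro χ hχ c
    obtain ⟨P, hP, hPc⟩ := (IsFinite.finite_app g W hW).to_isIntegral c
    refine ⟨P.map (algebraMap A O), hP.map _, ?_⟩
    let ψ := χ.comp (resO X' (g.preimage_mono (X.basicOpen_le r)))
    have hψ : ψ.comp (g.app W).hom = (algebraMap O L).comp (algebraMap A O) := RingHom.ext fun d => by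
      show χ _ = algebraMap O L (algebraMap A O d)
      rw [hpt, ← hsq]
      exact congr($hχ (algebraMap A A' d))
    rw [Polynomial.eval₂_map, ← hψ, show χ (resO X' _ c) = ψ c from rfl, ← Polynomial.hom_eval₂, hPc, map_zero]
  have he : 0 < D / n := Nat.div_pos (Nat.le_of_dvd hD hnD) hn
  obtain ⟨z, hz, hzmax⟩ := exists_eq_norm (O := O) (K := K) hn b φ a' he fun χ hχ => hint χ hχ aW
  haveI : Nontrivial A' := φ.domain_nontrivial
  have hν : φ (νloc g D (X.basicOpen r) a') = algebraMap O K z := by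
    rw [hz, ← map_pow]
    refine congrArg φ ?_
    show Algebra.norm A' a' ^ (D / finrank A' B') = _
    rw [finrank_eq_card_basis b, Fintype.card_fin]
  obtain ⟨⟨c, s⟩, hcs⟩ := IsLocalization.surj p.primeCompl z
  have hys : y ∈ X.basicOpen (s : A) :=
    (X.mem_basicOpen _ y hyσ).mpr (IsLocalization.map_units O s)
  have hsν : resO X (X.basicOpen_le r) (s : A) * νloc g D (X.basicOpen r) a' = resO X (X.basicOpen_le r) c := by
    refine hφinj ?_
    show φ (algebraMap A A' s * _) = φ (algebraMap A A' c)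
    rw [map_mul, hν, hφ, hφ, ← map_mul, mul_comm, hcs]
  let W' := X.basicOpen (s : A)
  have hW'V : W' ≤ V := (X.basicOpen_le _).trans hσV
  have hsW' : IsUnit (resO X (X.basicOpen_le (s : A)) (s : A) : Γ(X, W')) :=
    RingedSpace.isUnit_res_basicOpen _ (s : A)
  let t : Γ(X, W') := resO X (X.basicOpen_le _) c * ((hsW'.unit⁻¹ : Γ(X, W')ˣ) : Γ(X, W'))
  have hts : resO X (X.basicOpen_le (s : A)) (s : A) * t = resO X (X.basicOpen_le _) c := by
    show _ * (_ * _) = _
    rw [mul_left_comm]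
    exact (congrArg _ (IsUnit.mul_val_inv _)).trans (mul_one _)
  have hnorm : IsNorm g D (resO X' (g.preimage_mono hW'V) a) t := by
    intro W'' hW'' hG''
    rw [← sub_eq_zero, ← AlgebraicGeometry.basicOpen_eq_bot_iff]
    set d := resO X hW'' t - νloc g D W'' (resO X' (g.preimage_mono hW'') (resO X' (g.preimage_mono hW'V) a))
      with hd
    by_contra hne
    obtain ⟨x, hx⟩ : ((X.basicOpen d : X.Opens) : Set X).Nonempty := by rwa [Set.nonempty_iff_ne_empty, ← Opens.coe_bot, Ne, SetLike.coe_set_eq]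
    have hle : X.basicOpen d ≤ W := (X.basicOpen_le d).trans (hW''.trans (X.basicOpen_le _))
    obtain ⟨q, hqd, hxq⟩ := hW.exists_basicOpen_le ⟨x, hx⟩ (hle hx)
    have hq0 : q ≠ 0 := fun h => by
      rw [h, X.basicOpen_zero] at hxq
      exact hxq
    obtain ⟨w, hw⟩ : ((X.basicOpen (r * q) : X.Opens) : Set X).Nonempty := by
      rw [Set.nonempty_iff_ne_empty]
      intro h
      exact mul_ne_zero hr0 hq0 ((AlgebraicGeometry.basicOpen_eq_bot_iff _).mp (Opens.ext h))
    rw [X.basicOpen_mul] at hw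
    obtain ⟨B, hBle, hwB, hGB⟩ : ∃ B : X.Opens, B ≤ X.basicOpen r ⊓ X.basicOpen d ∧ w ∈ B ∧ Good g D B := by
      obtain ⟨q', hq', hwq'⟩ := hG.1.exists_basicOpen_le (V := X.basicOpen d) ⟨w, hqd hw.2⟩ hw.1
      exact ⟨_, le_inf (X.basicOpen_le _) hq', hwq', (good_basicOpen g D hG q').1⟩
    have hBr : B ≤ X.basicOpen r := hBle.trans inf_le_left
    have hBd : B ≤ X.basicOpen d := hBle.trans inf_le_right
    have hB'' : B ≤ W'' := hBd.trans (X.basicOpen_le d)
    have h1 := congrArg (resO X (le_inf hBr hB'')) (νloc_compat hG hG'' (V := V)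
      ((X.basicOpen_le r).trans hσV) (hW''.trans hW'V) a)
    rw [resO_resO, resO_resO] at h1
    have h2 := congrArg (resO X hBr) hsν
    rw [map_mul, resO_resO, resO_resO] at h2
    have h3 := congrArg (resO X (hB''.trans hW'')) hts
    rw [map_mul, resO_resO, resO_resO] at h3
    have hsu : IsUnit (resO X (hBr.trans (X.basicOpen_le r)) (s : A)) := by
      rw [← resO_resO (hB''.trans hW'') (X.basicOpen_le (s : A))]
      exact (RingedSpace.isUnit_res_basicOpen _ (s : A)).map _
    have h4 : resO X hBr (νloc g D (X.basicOpen r) a') = resO X (hB''.trans hW'') t :=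
      hsu.mul_left_cancel (h2.trans h3.symm)
    have h0 : resO X hB'' d = 0 := by
      rw [hd, map_sub, resO_resO, ← h4, sub_eq_zero]
      refine Eq.trans ?_ (h1.trans ?_)
      · exact congrArg _ (congrArg _ (resO_resO _ _ a))
      · exact congrArg _ (congrArg _ (resO_resO _ _ a).symm)
    have : w ∈ X.basicOpen (resO X hB'' d) := (X.basicOpen_res d _).ge ⟨hwB, hBd hwB⟩
    rw [h0, X.basicOpen_zero] at this
    exact this
  refine ⟨W', hW'V, hys, t, hnorm, fun hyt => ?_⟩
  by_contra! hno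
  have hzm : z ∈ IsLocalRing.maximalIdeal O := by
    refine hzmax fun χ q hχ hq hqc => ?_
    let ψ : Γ(X', g ⁻¹ᵁ W) →+* integralClosure O L :=
      (χ.comp (resO X' (g.preimage_mono (X.basicOpen_le r)))).codRestrict (integralClosure O L) (hint χ hχ)
    show ψ aW ∈ q
    let Q : PrimeSpectrum Γ(X', g ⁻¹ᵁ W) := ⟨q.comap ψ, Ideal.IsPrime.comap ψ⟩
    have hψ : ψ.comp (g.app W).hom = (algebraMap O (integralClosure O L)).comp (algebraMap A O) :=
      RingHom.ext fun d => Subtype.ext (by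
        show χ _ = algebraMap O L (algebraMap A O d)
        rw [hpt, ← hsq]
        exact congr($hχ (algebraMap A A' d)))
    have hQ : (Spec.map (g.appLE W (g ⁻¹ᵁ W) le_rfl)).base Q = hW.primeIdealOf ⟨y, hyσ⟩ := by
      refine PrimeSpectrum.ext ?_
      show (q.comap ψ).comap (g.appLE W (g ⁻¹ᵁ W) le_rfl).hom = p
      rw [Scheme.Hom.appLE_eq_app, Ideal.comap_comap, hψ, ← Ideal.comap_comap, hqc]
      exact IsLocalization.AtPrime.comap_maximalIdeal O p
    let x' : X' := (hW.preimage g).fromSpec Q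
    have hx' : g.base x' = y := by
      show (((hW.preimage g).fromSpec ≫ g).base Q : X) = y
      rw [← IsAffineOpen.SpecMap_appLE_fromSpec g hW (hW.preimage g) le_rfl]
      show hW.fromSpec.base _ = y
      exact (congrArg _ hQ).trans (hW.fromSpec_primeIdealOf ⟨y, hyσ⟩)
    by_contra hmem
    have hx'a : x' ∈ X'.basicOpen aW := by
      show Q ∈ (hW.preimage g).fromSpec ⁻¹ᵁ X'.basicOpen aW
      rw [(hW.preimage g).fromSpec_preimage_basicOpen]
      exact hmem
    exact hno x' hx' (QC.basicOpen_resO_le _ a hx'a)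
  have hgz : X.presheaf.germ W' y hys t = z := by
    have h5 := congrArg (X.presheaf.germ W' y hys).hom hts
    rw [map_mul] at h5
    have e1 : ∀ d : A, (X.presheaf.germ W' y hys).hom (resO X (X.basicOpen_le (s : A)) d) = algebraMap A O d :=
      fun d => X.presheaf.germ_res_apply _ y hys d
    rw [e1, e1, ← hcs, mul_comm] at h5
    exact (IsLocalization.map_units O s).mul_right_cancel h5
  have := (X.mem_basicOpen t y hys).mp hyt
  rw [show (X.presheaf.germ W' y hys) t = z from hgz] at this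
  exact (IsLocalRing.mem_maximalIdeal z).mp hzm this

/-- The norm near a normal point of a Noetherian reduced scheme. -/
theorem exists_local_norm [IsNoetherian X] [IsReduced X] [IsFinite g] (hD : 0 < D)
    (hdense : ∀ O : X.Opens, (O : Set X).Nonempty → ∃ W, W ≤ O ∧ (W : Set X).Nonempty ∧ Good g D W)
    {V : X.Opens} (a : Γ(X', g ⁻¹ᵁ V)) {y : X} (hy : y ∈ V)
    (hnor : IsDomain (X.presheaf.stalk y) ∧ IsIntegrallyClosed (X.presheaf.stalk y)) :
    ∃ (W : X.Opens) (hWV : W ≤ V) (_ : y ∈ W) (t : Γ(X, W)),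
      IsNorm g D (resO X' (g.preimage_mono hWV) a) t ∧
      (y ∈ X.basicOpen t → ∃ x', g.base x' = y ∧ x' ∈ X'.basicOpen a) :=
  exists_local_norm_of_nhd hD hdense a hy hnor (exists_domain_nhd hnor.1)

/-- Norms restrict to smaller opens. -/
lemma IsNorm.restrict [IsAffineHom g] {W V : X.Opens} (h : W ≤ V) {a : Γ(X', g ⁻¹ᵁ V)} {t : Γ(X, V)}
    (ht : IsNorm g D a t) : IsNorm g D (resO X' (g.preimage_mono h) a) (resO X h t) := fun W' hW' hG => by
  rw [resO_resO, ht W' (hW'.trans h) hG, resO_resO]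

set_option maxHeartbeats 800000 in
/-- The norm map when every point is normal or has a free neighbourhood. -/
theorem exists_normMap_of_normalOrFree [IsNoetherian X] [IsReduced X] [IsFinite g] [Surjective g]
    (h : NormalOrFree g) : ∃ D, 0 < D ∧ Nonempty (NormMap g D) := by
  classical
  obtain ⟨D, hD, hfree, hdense⟩ := exists_degree h
  have hloc : ∀ (V : X.Opens) (a : Γ(X', g ⁻¹ᵁ V)) (y : X), y ∈ V →
      ∃ (W : X.Opens) (hWV : W ≤ V) (_ : y ∈ W) (t : Γ(X, W)),
        IsNorm g D (resO X' (g.preimage_mono hWV) a) t ∧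
        (y ∈ X.basicOpen t → ∃ x', g.base x' = y ∧ x' ∈ X'.basicOpen a) := by
    intro V a y hy
    rcases h y with hnor | ⟨W, n, hyW, hn, hW, hb⟩
    · exact exists_local_norm hD hdense a hy hnor
    · obtain ⟨r, hrV, hyr⟩ := hW.exists_basicOpen_le ⟨y, hy⟩ hyW
      have hG := (good_basicOpen g D (hfree W n ⟨hn, hW, hb⟩ ⟨y, hyW⟩) r).1
      have ht : IsNorm g D (resO X' (g.preimage_mono hrV) a)
          (νloc g D _ (resO X' (g.preimage_mono hrV) a)) := fun W' hW' hG' => by
        have key := congrArg (resO X (le_inf hW' le_rfl)) (νloc_compat hG hG' hrV (hW'.trans hrV) a)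
        rw [resO_resO, resO_resO, QC.resO_self] at key
        rw [key]
        exact congrArg _ (resO_resO _ _ a).symm
      refine ⟨_, hrV, hyr, _, ht, fun hyb => ?_⟩
      obtain ⟨x', hx', hxa⟩ := exists_mem_of_good hD ht hG hyr hyb
      exact ⟨x', hx', QC.basicOpen_resO_le _ a hxa⟩
  have hE : ∀ (V : X.Opens) (a : Γ(X', g ⁻¹ᵁ V)), ∃! t : Γ(X, V), IsNorm g D a t := by
    intro V a
    choose W hWV hyW t ht _ using fun y : V => hloc V a y.1 y.2
    obtain ⟨T, hT, -⟩ := X.sheaf.existsUnique_gluing' W V (fun y => homOfLE (hWV y))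
      (fun y hy => Opens.mem_iSup.mpr ⟨⟨y, hy⟩, hyW _⟩) t (fun i j => by
        show resO X (inf_le_left : W i ⊓ W j ≤ W i) (t i) = resO X (inf_le_right : W i ⊓ W j ≤ W j) (t j)
        refine eq_of_isNorm hdense (a := resO X' (g.preimage_mono (inf_le_left.trans (hWV i))) a) ?_ ?_
        · have := (ht i).restrict (inf_le_left : W i ⊓ W j ≤ W i)
          rwa [resO_resO] at this
        · have := (ht j).restrict (inf_le_right : W i ⊓ W j ≤ W j)
          rwa [resO_resO] at this)
    have hnorm : IsNorm g D a T := fun W' hW' hG' => by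
      choose r hr hyr using fun z : W' =>
        hG'.1.exists_basicOpen_le (V := W ⟨z.1, hW' z.2⟩) ⟨z.1, hyW _⟩ z.2
      refine X.sheaf.eq_of_locally_eq' (fun z : W' => X.basicOpen (r z)) W'
        (fun z => homOfLE (X.basicOpen_le _)) (fun z hz => Opens.mem_iSup.mpr ⟨⟨z, hz⟩, hyr _⟩) _ _ fun z => ?_
      show resO X (X.basicOpen_le (r z)) (resO X hW' T) = resO X (X.basicOpen_le (r z)) (νloc g D W' _)
      obtain ⟨hG, hν⟩ := good_basicOpen g D hG' (r z)
      rw [← hν, resO_resO, ← resO_resO (hr z) (hWV _), show resO X (hWV _) T = t _ from hT _,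
        ht _ _ (hr z) hG, resO_resO, resO_resO]
    exact ⟨T, hnorm, fun T' hT' => eq_of_isNorm hdense hT' hnorm⟩
  refine ⟨D, hD, ⟨normMapOfUnique hE fun V a y hy hyb => ?_⟩⟩
  obtain ⟨W, hWV, hyW, t, ht, hex⟩ := hloc V a y hy
  refine hex ?_
  rw [eq_of_isNorm hdense ht ((hE V a).choose_spec.1.restrict hWV)]
  exact (X.basicOpen_res _ _).ge ⟨hyW, hyb⟩

variable (g) in
lemma free_sections [Surjective g] {V : X.Opens} {n : ℕ}
    (e : ((Coh.push g).obj (Coh.structureModule X')).restrict V.ι ≅ FlatMod.freeMod V.toScheme n)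
    {W : X.Opens} (hW : IsAffineOpen W) (hWV : W ≤ V) {x : X} (hxW : x ∈ W) :
    0 < n ∧ (letI := (g.app W).hom.toAlgebra
      Nonempty (Basis (Fin n) Γ(X, W) Γ(X', g ⁻¹ᵁ W))) := by
  obtain ⟨b⟩ := LocFree.exists_basis_sections_of_le e hW hWV
  letI := (g.app W).hom.toAlgebra
  let l : Γ((Coh.push g).obj (Coh.structureModule X'), W) ≃ₗ[Γ(X, W)] Γ(X', g ⁻¹ᵁ W) :=
    { toFun := fun c => c
      invFun := fun c => c
      map_add' := fun _ _ => rfl
      map_smul' := fun _ _ => rfl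
      left_inv := fun _ => rfl
      right_inv := fun _ => rfl }
  let b' : Basis (Fin n) Γ(X, W) Γ(X', g ⁻¹ᵁ W) := (b.reindex Equiv.ulift).map l
  refine ⟨Nat.pos_of_ne_zero fun hn => ?_, ⟨b'⟩⟩
  subst hn
  haveI : Subsingleton Γ(X', g ⁻¹ᵁ W) := b'.repr.toEquiv.subsingleton
  obtain ⟨x', hx'⟩ := g.surjective x
  have hx'W : x' ∈ g ⁻¹ᵁ W := by
    show g.base x' ∈ W
    rw [hx']; exact hxW
  have hu : x' ∈ X'.basicOpen (0 : Γ(X', g ⁻¹ᵁ W)) :=
    (X'.basicOpen_of_isUnit (isUnit_of_subsingleton _)).ge hx'W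
  rw [X'.basicOpen_zero] at hu
  exact hu

/-- `NormalOrFree` from local freeness on neighbourhoods. -/
theorem normalOrFree_of_locallyFree [Surjective g]
    (hW : ∀ x : X, (IsDomain (X.presheaf.stalk x) ∧ IsIntegrallyClosed (X.presheaf.stalk x)) ∨
      ∃ T : X.Opens, x ∈ T ∧ FlatMod.IsFinLocFree (((Coh.push g).obj (Coh.structureModule X')).restrict T.ι)) :
    NormalOrFree g := fun x => (hW x).imp_right fun ⟨T, hxT, hfree⟩ => by
  obtain ⟨U, n, hxU, ⟨e⟩⟩ := hfree ⟨x, hxT⟩
  let V := T.ι ''ᵁ U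
  let k : V.toScheme ⟶ U.toScheme := (T.ι.isoImage U).inv
  let M := (Coh.push g).obj (Coh.structureModule X')
  obtain ⟨e₁⟩ := TMul.nonempty_restrictRestrictIso T.ι (k ≫ U.ι) V.ι
    (by rw [Category.assoc]; exact Scheme.Hom.isoImage_inv_ι _ _) M
  let eV : M.restrict V.ι ≅ FlatMod.freeMod V.toScheme n :=
    e₁.symm ≪≫ (Scheme.Modules.restrictFunctorComp k U.ι).app _ ≪≫
      (Scheme.Modules.restrictFunctor k).mapIso e ≪≫
      (Scheme.Modules.restrictFunctorIsoPullback k).app _ ≪≫ Groth.Agent.DerPerf.pullFreeIso k n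
  have hxV : x ∈ V := ⟨⟨x, hxT⟩, hxU, rfl⟩
  obtain ⟨W, hW', hxW, hWV⟩ := exists_isAffineOpen_mem_and_subset hxV
  exact ⟨W, n, hxW, (free_sections g eV hW' hWV hxW).1, hW', (free_sections g eV hW' hWV hxW).2⟩

/-- Open subschemes inherit `NormalOrFree`. -/
theorem NormalOrFree.restrict [IsAffineHom g] (h : NormalOrFree g) (U : X.Opens) :
    NormalOrFree (g ∣_ U) := fun x => by
  rcases h (U.ι x) with ⟨h1, h2⟩ | ⟨W₀, n, hxW, hn, hW, hb⟩
  · refine Or.inl ?_
    let e := (U.stalkIso x).commRingCatIsoToRingEquiv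
    haveI := h1
    haveI := h2
    exact ⟨e.toMulEquiv.isDomain_iff.mpr h1, @IsIntegrallyClosed.of_equiv _ _ _ _ e.symm h2⟩
  · refine Or.inr ?_
    obtain ⟨r, hrU, hxr⟩ := hW.exists_basicOpen_le ⟨U.ι x, x.2⟩ hxW
    obtain ⟨⟨hWa, n', hn', -, hb'⟩, -⟩ := good_basicOpen g n (W := W₀) ⟨hW, n, hn, dvd_rfl, hb⟩ r
    have e : U.ι ''ᵁ (U.ι ⁻¹ᵁ X.basicOpen r) = X.basicOpen r := by
      rw [Scheme.Hom.image_preimage_eq_opensRange_inf, Scheme.Opens.opensRange_ι, inf_eq_right.mpr hrU]
    refine ⟨U.ι ⁻¹ᵁ X.basicOpen r, n', hxr, hn',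
      (U.ι.isAffineOpen_iff_of_isOpenImmersion).mp (by rw [e]; exact hWa), ?_⟩
    have key := basis_appLE e (image_morphismRestrict_preimage g U (U.ι ⁻¹ᵁ X.basicOpen r)) hb'
    rw [← morphismRestrict_app'] at key
    exact key

end Groth.Agent.NormAmple
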