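import Groth.Agent.NormAmple.LocFree
import Groth.Agent.TMul.RelAmpleOps

/-!
Restriction of norms and relative ampleness.
-/

set_option autoImplicit false
set_option backward.isDefEq.respectTransparency false
set_option linter.style.haveILetI false
set_option linter.unusedSectionVars false

universe u

open CategoryTheory CategoryTheory.Limits AlgebraicGeometry TopologicalSpace Opposite
open Groth.Agent.QC (res resO res_res res_self res_smul resO_resO resO_self app_res)

noncomputable section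

namespace Groth.Agent.NormAmple

open Groth.Agent

variable {X' X Y : Scheme.{u}} {g : X' ⟶ X} {D : ℕ}

/-- Comparison of the functions on an open of an open subscheme. -/
def sects (U : X.Opens) (V : U.toScheme.Opens) :
    Γ((g ⁻¹ᵁ U).toScheme, (g ∣_ U) ⁻¹ᵁ V) →+* Γ(X', g ⁻¹ᵁ (U.ι ''ᵁ V)) :=
  resO X' (image_morphismRestrict_preimage g U V).ge

lemma mem_basicOpen_opens {Z : Scheme.{u}} {U : Z.Opens} (W : U.toScheme.Opens) (t : Γ(U.toScheme, W))
    (z : U.toScheme) : z ∈ U.toScheme.basicOpen t ↔ U.ι z ∈ Z.basicOpen (show Γ(Z, U.ι ''ᵁ W) from t) := by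
  have e := Scheme.image_basicOpen U.ι t
  rw [Scheme.Opens.ι_appIso] at e
  rw [← U.ι.apply_mem_image_iff, e]
  rfl

lemma ι_restrict_apply (U : X.Opens) (x' : (g ⁻¹ᵁ U).toScheme) :
    g.base ((g ⁻¹ᵁ U).ι x') = U.ι ((g ∣_ U).base x') := by
  rw [← Scheme.Hom.comp_apply, ← Scheme.Hom.comp_apply, morphismRestrict_ι]

/-- A norm restricts to opens. -/
def NormMap.restrict (N : NormMap g D) (U : X.Opens) : NormMap (g ∣_ U) D where
  ν V := (N.ν (U.ι ''ᵁ V)).comp (sects U V).toMonoidHom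
  ν_res := fun {W V} h a => by
    show N.ν (U.ι ''ᵁ W) (sects U W (resO _ _ a)) = resO X (U.ι.image_mono h) (N.ν _ (sects U V a))
    rw [← N.ν_res (U.ι.image_mono h)]
    refine congrArg _ ?_
    exact (resO_resO (image_morphismRestrict_preimage g U W).ge
      ((g ⁻¹ᵁ U).ι.image_mono ((g ∣_ U).preimage_mono h)) a).trans
      (resO_resO (g.preimage_mono (U.ι.image_mono h)) (image_morphismRestrict_preimage g U V).ge a).symm
  ν_app := fun V c => by
    have e : sects U V (((g ∣_ U).app V).hom c) = (g.app (U.ι ''ᵁ V)).hom c := by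
      rw [morphismRestrict_app]
      exact (resO_resO (image_morphismRestrict_preimage g U V).ge
        (image_morphismRestrict_preimage g U V).le _).trans (QC.resO_self _ _)
    show N.ν _ (sects U V _) = _
    rw [e]
    exact N.ν_app _ c
  mem_basicOpen := fun V a y hy hfib => by
    have hyU : U.ι y ∈ U.ι ''ᵁ V := ⟨y, hy, rfl⟩
    refine (mem_basicOpen_opens V _ y).2 (N.mem_basicOpen (U.ι ''ᵁ V) (sects U V a) (U.ι y) hyU
      fun x' hx' => ?_)
    have hxU : x' ∈ g ⁻¹ᵁ U := by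
      show g.base x' ∈ U
      rw [hx']; exact y.2
    have := (mem_basicOpen_opens _ a _).1
      (hfib ⟨x', hxU⟩ (U.ι.isOpenEmbedding.injective ((ι_restrict_apply U ⟨x', hxU⟩).symm.trans hx')))
    have hx'V : x' ∈ g ⁻¹ᵁ (U.ι ''ᵁ V) := by
      show g.base x' ∈ U.ι ''ᵁ V
      rw [hx']; exact hyU
    rw [show X'.basicOpen (sects U V a) = _ from X'.basicOpen_res a _]
    exact ⟨hx'V, this⟩
  exists_mem := fun V a y hy hyb => by
    obtain ⟨x', hx', hxa⟩ := N.exists_mem (U.ι ''ᵁ V) (sects U V a) (U.ι y) ⟨y, hy, rfl⟩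
      ((mem_basicOpen_opens V _ y).1 hyb)
    have hxU : x' ∈ g ⁻¹ᵁ U := by
      show g.base x' ∈ U
      rw [hx']; exact y.2
    exact ⟨⟨x', hxU⟩, U.ι.isOpenEmbedding.injective ((ι_restrict_apply U ⟨x', hxU⟩).symm.trans hx'),
      (mem_basicOpen_opens _ a _).2 (QC.basicOpen_resO_le _ _ hxa)⟩

/-- Relative ampleness descends along a finite surjective morphism with a norm near each affine. -/
theorem isRelAmple_of_pullback (f : X ⟶ Y) [QuasiCompact f] [IsFinite g]
    (hN : ∀ V : Y.affineOpens, ∃ D, 0 < D ∧ Nonempty (NormMap (g ∣_ (f ⁻¹ᵁ V.1)) D))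
    {L : X.Modules} (hL : PicF.IsInvertible L)
    (h : RelAmple.IsRelAmple (g ≫ f) ((Scheme.Modules.pullback g).obj L)) : RelAmple.IsRelAmple f L := by
  refine ⟨inferInstance, fun V => ?_⟩
  obtain ⟨D, hD, ⟨N⟩⟩ := hN V
  haveI : CompactSpace (f ⁻¹ᵁ V.1).toScheme :=
    isCompact_iff_compactSpace.mp (f.isCompact_preimage V.2.isCompact)
  haveI : IsFinite (g ∣_ (f ⁻¹ᵁ V.1)) := IsZariskiLocalAtTarget.restrict ‹_› _
  exact isAmple_of_pullback hD N (TMul.isInvertible_restrict _ hL)
    (TMul.isAmple_congr ((Groth.Agent.DerPerf.pullRestrictIso g (f ⁻¹ᵁ V.1)).app L) (h.2 V))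

end Groth.Agent.NormAmple
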